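import Mathlib.AlgebraicGeometry.Morphisms.SchemeTheoreticallyDominant
import Mathlib.AlgebraicGeometry.Morphisms.Separated
import Mathlib.AlgebraicGeometry.Sites.Fpqc
import Mathlib.AlgebraicGeometry.FunctionField

/-!
# Extending maps from the generic fibre
-/

set_option autoImplicit false
set_option linter.style.haveILetI false
set_option backward.isDefEq.respectTransparency.types false
universe u

open CategoryTheory CategoryTheory.Limits AlgebraicGeometry TopologicalSpace

noncomputable section

namespace Groth.L20.GenExt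

/-- Maps to a separated scheme agreeing on a scheme-theoretically dense part are equal. -/
theorem ext_of_isSchemeTheoreticallyDominant {W X Y Z : Scheme.{u}} {f g : X ⟶ Y} (s : Y ⟶ Z) [IsSeparated s]
    (h : f ≫ s = g ≫ s) (j : W ⟶ X) [IsSchemeTheoreticallyDominant j] (hj : j ≫ f = j ≫ g) : f = g := by
  let e := pullback.fst (pullback.lift f g h) (pullback.diagonal s)
  have hl : j ≫ pullback.lift f g h = (j ≫ f) ≫ pullback.diagonal s := by
    apply pullback.hom_ext
    · rw [Category.assoc, pullback.lift_fst, Category.assoc, pullback.diagonal_fst, Category.comp_id]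
    · rw [Category.assoc, pullback.lift_snd, Category.assoc, pullback.diagonal_snd, Category.comp_id, hj]
  haveI : IsIso e := IsClosedImmersion.isIso_iff_ker_eq_bot.2 (le_bot_iff.1 (by
    refine ((pullback.lift j (j ≫ f) hl).le_ker_comp e).trans ?_
    simp only [e, pullback.lift_fst, j.ker_eq_bot, le_refl]))
  have c := pullback.condition (f := pullback.lift f g h) (g := pullback.diagonal s)
  have c1 := congrArg (· ≫ pullback.fst s s) c
  have c2 := congrArg (· ≫ pullback.snd s s) c
  simp only [Category.assoc, pullback.lift_fst, pullback.lift_snd, pullback.diagonal_fst, pullback.diagonal_snd,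
    Category.comp_id] at c1 c2
  rw [← cancel_epi e]
  exact c1.trans c2.symm

variable (T : Scheme.{u}) [IsIntegral T]

instance quasiCompact_generic : QuasiCompact (T.fromSpecStalk (genericPoint T)) := by
  refine ⟨fun U _ _ => ?_⟩
  haveI : Subsingleton ↥(Spec (T.presheaf.stalk (genericPoint T))) :=
    inferInstanceAs (Subsingleton (PrimeSpectrum T.functionField))
  exact Set.Finite.isCompact (Set.toFinite _)

instance isDominant_generic : IsDominant (T.fromSpecStalk (genericPoint T)) := by
  exact ⟨fun x => (genericPoint_specializes x).mem_closed isClosed_closure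
    (subset_closure ⟨IsLocalRing.closedPoint _, Scheme.fromSpecStalk_closedPoint⟩)⟩

instance isSTD_generic : IsSchemeTheoreticallyDominant (T.fromSpecStalk (genericPoint T)) := .of_isDominant _

variable {T} {Y Z : Scheme.{u}} (pY : Y ⟶ T) (pZ : Z ⟶ T) [Flat pY] [IsSeparated pZ]
  (ψ : pullback pY (T.fromSpecStalk (genericPoint T)) ⟶ Z)

/-- The schematic closure of the graph of an extendable map is the graph. -/
theorem extends_iff_isIso
    (gr : pullback pY (T.fromSpecStalk (genericPoint T)) ⟶ pullback pY pZ)
    (hgr₁ : gr ≫ pullback.fst pY pZ = pullback.fst pY (T.fromSpecStalk (genericPoint T)))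
    (hgr₂ : gr ≫ pullback.snd pY pZ = ψ) :
    (∃ φ : Y ⟶ Z, φ ≫ pZ = pY ∧ pullback.fst pY (T.fromSpecStalk (genericPoint T)) ≫ φ = ψ) ↔
      IsIso (gr.imageι ≫ pullback.fst pY pZ) := by
  constructor
  · rintro ⟨φ, hφ, hψ⟩
    let γ : Y ⟶ pullback pY pZ := pullback.lift (𝟙 Y) φ (by rw [Category.id_comp, hφ])
    haveI : IsClosedImmersion (γ ≫ pullback.fst pY pZ) := by rw [pullback.lift_fst]; infer_instance
    haveI : IsClosedImmersion γ := IsClosedImmersion.of_comp γ (pullback.fst pY pZ)
    have e : gr = pullback.fst pY (T.fromSpecStalk (genericPoint T)) ≫ γ := by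
      apply pullback.hom_ext
      · simp only [γ, Category.assoc, pullback.lift_fst, Category.comp_id, hgr₁]
      · simp only [γ, Category.assoc, pullback.lift_snd, hψ, hgr₂]
    have hk : gr.ker = γ.ker := by
      rw [e, Scheme.Hom.ker_comp, Scheme.Hom.ker_eq_bot, Scheme.IdealSheafData.map_bot]
    show IsIso (gr.ker.subschemeι ≫ pullback.fst pY pZ)
    rw [hk]
    show IsIso (γ.imageι ≫ pullback.fst pY pZ)
    have h1 : γ.toImage ≫ γ.imageι ≫ pullback.fst pY pZ = 𝟙 Y := by
      rw [Scheme.Hom.toImage_imageι_assoc]; exact pullback.lift_fst _ _ _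
    exact IsIso.of_isIso_fac_left h1
  · intro h
    refine ⟨inv (gr.imageι ≫ pullback.fst pY pZ) ≫ gr.imageι ≫ pullback.snd pY pZ, ?_, ?_⟩
    · simp only [Category.assoc, IsIso.inv_comp_eq, pullback.condition]
    · have h1 : pullback.fst pY (T.fromSpecStalk (genericPoint T)) =
          gr.toImage ≫ gr.imageι ≫ pullback.fst pY pZ := by rw [Scheme.Hom.toImage_imageι_assoc, hgr₁]
      rw [h1, Category.assoc, IsIso.hom_inv_id_assoc, Scheme.Hom.toImage_imageι_assoc, hgr₂]

/-- An extension after a flat quasi-compact surjective base change descends. -/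
theorem exists_extension {T' : Scheme.{u}} (g : T' ⟶ T) [Flat g] [Surjective g] [QuasiCompact g]
    (φ' : pullback pY g ⟶ pullback pZ g) (hφ' : φ' ≫ pullback.snd pZ g = pullback.snd pY g)
    (hagree : pullback.fst (pullback.fst pY g) (pullback.fst pY (T.fromSpecStalk (genericPoint T))) ≫ φ' ≫ pullback.fst pZ g =
      pullback.snd (pullback.fst pY g) (pullback.fst pY (T.fromSpecStalk (genericPoint T))) ≫ ψ) :
    ∃ φ : Y ⟶ Z, φ ≫ pZ = pY ∧ pullback.fst pY (T.fromSpecStalk (genericPoint T)) ≫ φ = ψ := by
  let p := pullback.fst pY g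
  let i := pullback.fst pY (T.fromSpecStalk (genericPoint T))
  let χ := φ' ≫ pullback.fst pZ g
  have hχ : χ ≫ pZ = p ≫ pY := by
    simp only [χ, p, Category.assoc, pullback.condition, reassoc_of% hφ']
  have hW : pullback.fst p p ≫ χ = pullback.snd p p ≫ χ := by
    refine ext_of_isSchemeTheoreticallyDominant pZ ?_ (pullback.fst (pullback.fst p p ≫ p) i) ?_
    · simp only [Category.assoc, hχ, pullback.condition_assoc]
    · let a : pullback (pullback.fst p p ≫ p) i ⟶ pullback p i :=
        pullback.lift (pullback.fst _ _ ≫ pullback.fst p p) (pullback.snd _ _) (by rw [Category.assoc]; exact pullback.condition)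
      let b : pullback (pullback.fst p p ≫ p) i ⟶ pullback p i :=
        pullback.lift (pullback.fst _ _ ≫ pullback.snd p p) (pullback.snd _ _) (by
          rw [Category.assoc]
          exact (congrArg (pullback.fst _ _ ≫ ·) (pullback.condition (f := p) (g := p)).symm).trans pullback.condition)
      have ha := congrArg (a ≫ ·) hagree
      have hb := congrArg (b ≫ ·) hagree
      simp only [a, b, p, i, χ, pullback.lift_fst_assoc, pullback.lift_snd_assoc, Category.assoc] at ha hb ⊢
      exact ha.trans hb.symm
  refine ⟨EffectiveEpi.desc p χ fun {W} g₁ g₂ h => ?_, ?_, ?_⟩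
  · have := congrArg (pullback.lift g₁ g₂ h ≫ ·) hW
    simpa only [pullback.lift_fst_assoc, pullback.lift_snd_assoc] using this
  · rw [← cancel_epi p, EffectiveEpi.fac_assoc, hχ]
  · rw [← cancel_epi (pullback.snd p i), ← pullback.condition_assoc, EffectiveEpi.fac]
    exact hagree

end Groth.L20.GenExt
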